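import Cfsg.Agent.E8A.Inf.Pat
import Cfsg.Agent.R2.T1.Five.Lin

/-!
# S5772, S5930: tables of the dimensions of the fixed spaces on the adjoint module (helper41)

* `chk N rs ds T`, `tab` : `x ^ N = 1`, `x` conjugate to `x ^ a` for `a ∈ rs`: the list of the `ev (LK F (x ^ d)) 1`, `d ∈ ds`,
  is in `T`;
* `T2`, `T3`, … : the tables; `two`, `three`, `five`, `five_rat`, `seven_rat`, … ;
* `ge_p` : elements of order `p`.
-/

set_option autoImplicit false
set_option maxRecDepth 100000

namespace Cfsg.Agent.E8A.Inf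

open Cfsg Cfsg.Lie Module
open Cfsg.Agent.H952.F4 (ev es)
open Cfsg.Agent.H944.Tab (allAlc)
open Cfsg.Agent.H942.E8Tab (th8)

universe u

/-- the test for one point of the alcove -/
def ok (N : ℕ) (rs ds : List ℕ) (T : List (List ℕ)) (n : ℕ) : Bool :=
  !(rs.all (rat N n)) || T.contains (ds.map fun d => pw N n d 0)

/-- the test -/
def chk (N : ℕ) (rs ds : List ℕ) (T : List (List ℕ)) : Bool := allAlc th8 N fun y => ok N rs ds T (pk N y)

theorem tab {F : Type u} [Field F] [Finite F] {N : ℕ} {rs ds : List ℕ} {T : List (List ℕ)} (h : chk N rs ds T = true)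
    (hN : (N : F) ≠ 0) {x : G8 F} (hx : x ^ N = 1) (hr : ∀ a ∈ rs, IsConj x (x ^ a)) :
    (ds.map fun d => ev (LK F (x ^ d)) 1) ∈ T := by
  obtain ⟨n, h1, h2, h3⟩ := patF hN hx (P := ok N rs ds T) h
  have h4 : rs.all (rat N n) = true := List.all_eq_true.2 fun a ha => h3 a (hr a ha)
  rw [ok, h4, Bool.not_true, Bool.false_or, List.contains_iff_mem] at h1
  simpa only [h2] using h1

/-- `x ^ 2 = 1`: the dimensions of the fixed spaces of `x ^ d`, `d ∈ [1]` -/
def T2 : List (List ℕ) :=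
  [[120], [136], [248]]

theorem chk_T2 : chk 2 [] [1] T2 = true := by decide +kernel

/-- `x ^ 3 = 1`: the dimensions of the fixed spaces of `x ^ d`, `d ∈ [1]` -/
def T3 : List (List ℕ) :=
  [[80], [86], [92], [134], [248]]

theorem chk_T3 : chk 3 [] [1] T3 = true := by decide +kernel

/-- `x ^ 4 = 1`: the dimensions of the fixed spaces of `x ^ d`, `d ∈ [1, 2]` -/
def T4 : List (List ℕ) :=
  [[60, 120], [64, 120], [66, 136], [70, 136], [82, 136], [92, 120], [120, 248], [134, 136], [136, 248], [248, 248]]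

theorem chk_T4 : chk 4 [] [1, 2] T4 = true := by decide +kernel

/-- `x ^ 5 = 1`: the dimensions of the fixed spaces of `x ^ d`, `d ∈ [1]` -/
def T5 : List (List ℕ) :=
  [[48], [52], [54], [64], [68], [82], [92], [134], [248]]

theorem chk_T5 : chk 5 [] [1] T5 = true := by decide +kernel

/-- `x ^ 5 = 1`, `x` conjugate to `x ^ 2`: the dimensions of the fixed spaces of `x ^ d`, `d ∈ [1]` -/
def T5r2 : List (List ℕ) :=
  [[48], [52], [68], [248]]

theorem chk_T5r2 : chk 5 [2] [1] T5r2 = true := by decide +kernel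

/-- `x ^ 6 = 1`: the dimensions of the fixed spaces of `x ^ d`, `d ∈ [1, 2, 3]` -/
def T6 : List (List ℕ) :=
  [[40, 80, 120], [42, 86, 120], [44, 80, 136], [44, 92, 120], [46, 86, 136], [50, 86, 136], [50, 92, 120],
   [50, 92, 136], [52, 80, 136], [52, 92, 136], [54, 86, 120], [64, 80, 120], [64, 134, 120], [68, 92, 136],
   [70, 134, 120], [70, 134, 136], [80, 80, 248], [80, 134, 136], [82, 86, 136], [86, 86, 248], [92, 92, 120],
   [92, 92, 248], [120, 248, 120], [134, 134, 136], [134, 134, 248], [136, 248, 136], [248, 248, 248]]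

theorem chk_T6 : chk 6 [] [1, 2, 3] T6 = true := by decide +kernel

/-- `x ^ 7 = 1`: the dimensions of the fixed spaces of `x ^ d`, `d ∈ [1]` -/
def T7 : List (List ℕ) :=
  [[36], [38], [40], [50], [52], [54], [64], [68], [80], [82], [92], [134], [248]]

theorem chk_T7 : chk 7 [] [1] T7 = true := by decide +kernel

/-- `x ^ 7 = 1`, `x` conjugate to `x ^ 2`: the dimensions of the fixed spaces of `x ^ d`, `d ∈ [1]` -/
def T7r2 : List (List ℕ) :=
  [[38], [80], [248]]

theorem chk_T7r2 : chk 7 [2] [1] T7r2 = true := by decide +kernel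

/-- `x ^ 8 = 1`: the dimensions of the fixed spaces of `x ^ d`, `d ∈ [1, 2, 4]` -/
def T8 : List (List ℕ) :=
  [[30, 60, 120], [32, 60, 120], [32, 64, 120], [34, 64, 120], [34, 66, 136], [34, 70, 136], [36, 66, 136],
   [36, 70, 136], [38, 60, 120], [38, 70, 136], [40, 60, 120], [40, 64, 120], [40, 70, 136], [40, 82, 136],
   [42, 82, 136], [44, 92, 120], [48, 82, 136], [50, 64, 120], [50, 66, 136], [50, 70, 136], [50, 82, 136],
   [50, 92, 120], [52, 66, 136], [52, 92, 120], [54, 60, 120], [60, 120, 248], [64, 64, 120], [64, 120, 248],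
   [64, 134, 136], [66, 136, 248], [68, 70, 136], [68, 92, 120], [70, 134, 136], [70, 136, 248], [80, 82, 136],
   [80, 134, 136], [82, 82, 136], [82, 136, 248], [92, 92, 120], [92, 120, 248], [120, 248, 248], [134, 134, 136],
   [134, 136, 248], [136, 248, 248], [248, 248, 248]]

theorem chk_T8 : chk 8 [] [1, 2, 4] T8 = true := by decide +kernel

/-- `x ^ 8 = 1`, `x` conjugate to `x ^ 3`: the dimensions of the fixed spaces of `x ^ d`, `d ∈ [1, 2, 4]` -/
def T8r3 : List (List ℕ) :=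
  [[30, 60, 120], [32, 60, 120], [32, 64, 120], [34, 66, 136], [34, 70, 136], [36, 70, 136], [38, 60, 120],
   [38, 70, 136], [40, 82, 136], [44, 92, 120], [48, 82, 136], [50, 66, 136], [52, 92, 120], [60, 120, 248],
   [64, 120, 248], [64, 134, 136], [66, 136, 248], [68, 92, 120], [70, 136, 248], [80, 82, 136], [80, 134, 136],
   [82, 136, 248], [92, 120, 248], [120, 248, 248], [134, 136, 248], [136, 248, 248], [248, 248, 248]]

theorem chk_T8r3 : chk 8 [3] [1, 2, 4] T8r3 = true := by decide +kernel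

/-- `x ^ 9 = 1`: the dimensions of the fixed spaces of `x ^ d`, `d ∈ [1, 3]` -/
def T9 : List (List ℕ) :=
  [[28, 80], [28, 86], [30, 86], [32, 86], [32, 92], [34, 80], [34, 86], [36, 86], [38, 92], [40, 80], [40, 86],
   [44, 134], [48, 86], [50, 86], [50, 92], [50, 134], [52, 80], [54, 86], [64, 80], [68, 92], [68, 134], [80, 134],
   [80, 248], [82, 86], [86, 248], [92, 92], [92, 248], [134, 134], [134, 248], [248, 248]]

theorem chk_T9 : chk 9 [] [1, 3] T9 = true := by decide +kernel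

/-- `x ^ 9 = 1`, `x` conjugate to `x ^ 4`: the dimensions of the fixed spaces of `x ^ d`, `d ∈ [1, 3]` -/
def T9r4 : List (List ℕ) :=
  [[28, 86], [30, 86], [34, 86], [48, 86], [80, 248], [86, 248], [92, 248], [134, 248], [248, 248]]

theorem chk_T9r4 : chk 9 [4] [1, 3] T9r4 = true := by decide +kernel

/-- `x ^ 10 = 1`, `x` conjugate to `x ^ 3`: the dimensions of the fixed spaces of `x ^ d`, `d ∈ [1, 2, 5]` -/
def T10r3 : List (List ℕ) :=
  [[24, 48, 120], [28, 52, 136], [32, 48, 120], [32, 68, 120], [36, 68, 120], [36, 68, 136], [48, 48, 248],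
   [52, 52, 248], [68, 68, 120], [68, 68, 248], [120, 248, 120], [136, 248, 136], [248, 248, 248]]

theorem chk_T10r3 : chk 10 [3] [1, 2, 5] T10r3 = true := by decide +kernel

/-- `x ^ 11 = 1`, `x` conjugate to `x ^ 3`: the dimensions of the fixed spaces of `x ^ d`, `d ∈ [1]` -/
def T11r3 : List (List ℕ) :=
  [[28], [248]]

theorem chk_T11r3 : chk 11 [3] [1] T11r3 = true := by decide +kernel

section

variable {F : Type u} [Field F] [Finite F] {x : G8 F}

theorem two (h2 : (2 : F) ≠ 0) (hx : x ^ 2 = 1) (h1 : x ≠ 1) : ev (LK F x) 1 = 120 ∨ ev (LK F x) 1 = 136 := by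
  have h := tab chk_T2 (by exact_mod_cast h2) hx (by simp)
  have h' : ev (LK F x) 1 ≠ 248 := fun e => h1 (eq_one_of_ev e)
  simp only [T2, List.map, pow_one, List.mem_cons, List.cons.injEq, and_true, List.not_mem_nil, or_false] at h
  omega

theorem three (h3 : (3 : F) ≠ 0) (hx : x ^ 3 = 1) (h1 : x ≠ 1) :
    ev (LK F x) 1 = 80 ∨ ev (LK F x) 1 = 86 ∨ ev (LK F x) 1 = 92 ∨ ev (LK F x) 1 = 134 := by
  have h := tab chk_T3 (by exact_mod_cast h3) hx (by simp)
  have h' : ev (LK F x) 1 ≠ 248 := fun e => h1 (eq_one_of_ev e)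
  simp only [T3, List.map, pow_one, List.mem_cons, List.cons.injEq, and_true, List.not_mem_nil, or_false] at h
  omega

theorem five (h5 : (5 : F) ≠ 0) (hx : x ^ 5 = 1) (h1 : x ≠ 1) :
    ev (LK F x) 1 = 48 ∨ ev (LK F x) 1 = 52 ∨ ev (LK F x) 1 = 54 ∨ ev (LK F x) 1 = 64 ∨ ev (LK F x) 1 = 68 ∨
      ev (LK F x) 1 = 82 ∨ ev (LK F x) 1 = 92 ∨ ev (LK F x) 1 = 134 := by
  have h := tab chk_T5 (by exact_mod_cast h5) hx (by simp)
  have h' : ev (LK F x) 1 ≠ 248 := fun e => h1 (eq_one_of_ev e)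
  simp only [T5, List.map, pow_one, List.mem_cons, List.cons.injEq, and_true, List.not_mem_nil, or_false] at h
  omega

theorem five_rat (h5 : (5 : F) ≠ 0) (hx : x ^ 5 = 1) (h1 : x ≠ 1) (hr : IsConj x (x ^ 2)) :
    ev (LK F x) 1 = 48 ∨ ev (LK F x) 1 = 52 ∨ ev (LK F x) 1 = 68 := by
  have h := tab chk_T5r2 (by exact_mod_cast h5) hx (by simpa using hr)
  have h' : ev (LK F x) 1 ≠ 248 := fun e => h1 (eq_one_of_ev e)
  simp only [T5r2, List.map, pow_one, List.mem_cons, List.cons.injEq, and_true, List.not_mem_nil, or_false] at h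
  omega

theorem seven_rat (h7 : (7 : F) ≠ 0) (hx : x ^ 7 = 1) (h1 : x ≠ 1) (hr : IsConj x (x ^ 2)) :
    ev (LK F x) 1 = 38 ∨ ev (LK F x) 1 = 80 := by
  have h := tab chk_T7r2 (by exact_mod_cast h7) hx (by simpa using hr)
  have h' : ev (LK F x) 1 ≠ 248 := fun e => h1 (eq_one_of_ev e)
  simp only [T7r2, List.map, pow_one, List.mem_cons, List.cons.injEq, and_true, List.not_mem_nil, or_false] at h
  omega

theorem eleven_rat (h11 : (11 : F) ≠ 0) (hx : x ^ 11 = 1) (h1 : x ≠ 1) (hr : IsConj x (x ^ 3)) :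
    ev (LK F x) 1 = 28 := by
  have h := tab chk_T11r3 (by exact_mod_cast h11) hx (by simpa using hr)
  have h' : ev (LK F x) 1 ≠ 248 := fun e => h1 (eq_one_of_ev e)
  simp only [T11r3, List.map, pow_one, List.mem_cons, List.cons.injEq, and_true, List.not_mem_nil, or_false] at h
  omega

omit [Finite F] in
/-- elements of order `p` -/
theorem ge_p {p : ℕ} [Fact p.Prime] [CharP F p] (hx : x ^ p = 1) : 248 ≤ p * ev (LK F x) 1 := by
  have h := Cfsg.Agent.R2.T1.Five.ev_ge (T := LK F x) (p := p) (by rw [← map_pow, hx, map_one])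
  rwa [finrank_L8] at h

end

end Cfsg.Agent.E8A.Inf
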