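import Cfsg.Agent.E8A.Fix.Basic2
import Cfsg.Agent.H597.E8Form
import Cfsg.Agent.H955.L64.Irr
import Cfsg.Agent.FP3.Aff.Scott
import Cfsg.Agent.H952.F4.Chg
import Cfsg.Agent.H65.E6Emb

/-!
# S5772, S5930: the invariant form, duality, Scott's lemma, change of fields (helper41)

* `kf K` : the invariant symmetric form, `kf_comm`, `kf_nd`, `kf_act`; `finrank_L8`;
* `irr` : irreducibility; `blue` : the stabilizer of a proper `H`-stable subspace is the maximal subgroup `H`;
* `NoFx φ` : no fixed vectors; `com_top`, `scott`, `scott'` : Scott's lemma on the adjoint module;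
* `ev_em`, `ev_em_one`, `ext_inv`, `finrank_inv_em`, `NoFx.em` : change of the field.
-/

set_option autoImplicit false
set_option maxRecDepth 100000

namespace Cfsg.Agent.E8A.Inf

open Cfsg Cfsg.Lie Module
open Matrix hiding J J_transpose
open Cfsg.Agent.H597.E8Form (J J_transpose isUnit_det inv_gen)
open Cfsg.Agent.FP3 (dfx fixSp comSp mem_fixSp mem_comSp sub_mem_comSp)
open Cfsg.Agent.H952.F4 (ev es)
open Cfsg.Agent.H65.E6Emb (ext)

universe u v

variable {K : Type u} [Field K]

theorem finrank_L8 : finrank K (L8 K) = 248 := by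
  rw [Module.finrank_fintype_fun_eq_card, Fintype.card_sum, Fintype.card_fin, Fintype.card_fin]
  rfl

theorem LK_eq (g : G8 K) : LK K g = Matrix.toLin' (mx g) := LinearMap.ext fun _ => rfl

theorem ev_one_eq {V : Type*} [AddCommGroup V] [Module K V] (u : Module.End K V) : ev u 1 = dfx u := by
  rw [ev, Module.End.eigenspace_def, one_smul]
  rfl

theorem J_inv (g : G8 K) : (mx g).transpose * J K * mx g = J K := by
  let P : Subgroup (G8 K) :=
    { carrier := {g | (mx g).transpose * J K * mx g = J K}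
      one_mem' := by
        show (mx (1 : G8 K)).transpose * J K * mx 1 = J K
        rw [mx_one, Matrix.transpose_one, Matrix.one_mul, Matrix.mul_one]
      mul_mem' := fun {a b} ha hb => by
        show (mx (a * b)).transpose * J K * mx (a * b) = J K
        have ha' : (mx a).transpose * J K * mx a = J K := ha
        have hb' : (mx b).transpose * J K * mx b = J K := hb
        rw [mx_mul, Matrix.transpose_mul]
        calc (mx b).transpose * (mx a).transpose * J K * (mx a * mx b)
            = (mx b).transpose * ((mx a).transpose * J K * mx a) * mx b := by simp only [Matrix.mul_assoc]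
          _ = J K := by rw [ha', hb']
      inv_mem' := fun {a} ha => by
        show (mx a⁻¹).transpose * J K * mx a⁻¹ = J K
        have ha' : (mx a).transpose * J K * mx a = J K := ha
        calc (mx a⁻¹).transpose * J K * mx a⁻¹
            = (mx a⁻¹).transpose * ((mx a).transpose * J K * mx a) * mx a⁻¹ := by rw [ha']
          _ = (mx a * mx a⁻¹).transpose * J K * (mx a * mx a⁻¹) := by
              simp only [Matrix.transpose_mul, Matrix.mul_assoc]
          _ = J K := by rw [mx_mul_inv, Matrix.transpose_one, Matrix.one_mul, Matrix.mul_one] }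
  have h : P = ⊤ := eq_top_of_xr fun r t => by
    show (mx (xr r t)).transpose * J K * mx (xr r t) = J K
    have h1 : mx (xr r t) = chevE8.xMat K r t := by
      rw [mx_xr]
      exact Cfsg.Agent.ChevalleyStructure.Elts.x_of_lt r.isLt _
    rw [h1]
    exact inv_gen r t
  have h2 : g ∈ P := h ▸ Subgroup.mem_top g
  exact h2

variable (K) in
/-- the invariant form -/
noncomputable def kf : L8 K →ₗ[K] L8 K →ₗ[K] K := Matrix.toLinearMap₂' K (J K)

theorem kf_apply (x y : L8 K) : kf K x y = x ⬝ᵥ (J K *ᵥ y) := by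
  rw [kf, Matrix.toLinearMap₂'_apply']

theorem kf_comm (x y : L8 K) : kf K x y = kf K y x := by
  rw [kf_apply, kf_apply, Matrix.dotProduct_mulVec, ← Matrix.mulVec_transpose, J_transpose, dotProduct_comm]

theorem kf_nd {x : L8 K} (h : ∀ y, kf K x y = 0) : x = 0 := by
  have h1 : J K *ᵥ x = 0 := by
    funext i
    have h2 := h (Pi.single i 1)
    rw [kf_comm, kf_apply, single_dotProduct, one_mul] at h2
    exact h2
  exact Matrix.eq_zero_of_mulVec_eq_zero isUnit_det.ne_zero h1

theorem kf_act (g : G8 K) (x y : L8 K) : kf K (act g x) (act g y) = kf K x y := by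
  rw [kf_apply, kf_apply, act, act, Matrix.mulVec_mulVec, Matrix.dotProduct_mulVec, Matrix.vecMul_mulVec,
    ← Matrix.mul_assoc, J_inv, Matrix.dotProduct_mulVec]

theorem kf_act' (g : G8 K) (x y : L8 K) : kf K (act g x) y = kf K x (act g⁻¹ y) := by
  conv_lhs => rw [← act_inv' g y]
  exact kf_act g x _

theorem kf_nondeg : LinearMap.BilinForm.Nondegenerate (kf K) :=
  ⟨fun _ h => kf_nd h, fun _ h => kf_nd fun y => (kf_comm _ _).trans (h y)⟩

theorem kf_isRefl : LinearMap.IsRefl (kf K) := fun x y h => (kf_comm y x).trans h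

/-- a subspace with zero orthogonal is everything -/
theorem eq_top_of_perp {W : Submodule K (L8 K)} (h : ∀ x, (∀ w ∈ W, kf K w x = 0) → x = 0) : W = ⊤ := by
  have h1 : LinearMap.BilinForm.orthogonal (kf K) W = ⊥ := by
    rw [eq_bot_iff]
    intro x hx
    exact h x fun w hw => hx w hw
  have h2 := LinearMap.BilinForm.finrank_orthogonal (kf_nondeg (K := K)) W
  rw [h1, finrank_bot] at h2
  apply Submodule.eq_top_of_finrank_eq
  have h3 := Submodule.finrank_le W
  omega

theorem finrank_perp (W : Submodule K (L8 K)) :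
    finrank K ↥(LinearMap.BilinForm.orthogonal (kf K) W) + finrank K ↥W = 248 := by
  have h2 := LinearMap.BilinForm.finrank_orthogonal (kf_nondeg (K := K)) W
  have h3 := Submodule.finrank_le W
  rw [finrank_L8] at h2 h3
  omega

/-- irreducibility -/
theorem irr {W : Submodule K (L8 K)} (hW : ∀ g : G8 K, ∀ w ∈ W, act g w ∈ W) : W = ⊥ ∨ W = ⊤ := by
  refine Cfsg.Agent.H955.L64.irr_gen W fun r w hw => ?_
  have h1 : mx (xr r (1 : K)) = chevE8.xMat K r 1 := by
    rw [mx_xr]
    exact Cfsg.Agent.ChevalleyStructure.Elts.x_of_lt r.isLt _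
  rw [← h1]
  exact hW _ w hw

/-- the stabilizer of a proper subspace which is stable under a maximal subgroup is the maximal subgroup -/
theorem blue {H : Subgroup (G8 K)} (hH : IsCoatom H) {W : Submodule K (L8 K)} (h0 : W ≠ ⊥) (h1 : W ≠ ⊤)
    (hW : ∀ h ∈ H, ∀ w ∈ W, act h w ∈ W) {g : G8 K} (hg : ∀ w ∈ W, act g w ∈ W) : g ∈ H := by
  have hle : H ≤ stabL W := fun h hh => ⟨hW h hh, hW h⁻¹ (H.inv_mem hh)⟩
  have hne : stabL W ≠ ⊤ := fun ht => by
    rcases irr (W := W) (fun x => (show x ∈ stabL W from ht ▸ Subgroup.mem_top x).1) with h | h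
    exacts [h0 h, h1 h]
  have he : stabL W = H := by
    rcases hle.eq_or_lt with h | h
    · exact h.symm
    · exact absurd (hH.2 _ h) hne
  rw [← he]
  refine ⟨hg, fun w hw => ?_⟩
  let f : ↥W →ₗ[K] ↥W := (LK K g).restrict hg
  have hf : Function.Injective f := fun a b hab => Subtype.ext (act_injective g (congrArg Subtype.val hab))
  obtain ⟨y, hy⟩ := (LinearMap.injective_iff_surjective.1 hf) ⟨w, hw⟩
  have h2 : act g (y : L8 K) = w := congrArg Subtype.val hy
  rw [← h2, act_inv]
  exact y.2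

/-! ### Scott's lemma -/

section scott

variable {A : Type v} [Group A]

/-- the restriction of the adjoint module -/
noncomputable abbrev rp (φ : A →* G8 K) : Representation K A (L8 K) := (LK K).comp φ

theorem rp_apply (φ : A →* G8 K) (a : A) (v : L8 K) : rp φ a v = act (φ a) v := rfl

/-- no fixed vectors -/
def NoFx (φ : A →* G8 K) : Prop := ∀ v : L8 K, (∀ a, act (φ a) v = v) → v = 0

theorem perp_comSp (g : G8 K) (x : L8 K) : (∀ w ∈ comSp (LK K g), kf K w x = 0) ↔ act g x = x := by
  constructor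
  · intro h
    have h1 : act g⁻¹ x - x = 0 := by
      refine kf_nd fun y => ?_
      have h2 := h _ (sub_mem_comSp (LK K g) y)
      rw [LK_apply, map_sub, LinearMap.sub_apply, kf_act'] at h2
      rw [kf_comm, map_sub, h2]
    conv_lhs => rw [← sub_eq_zero.1 h1]
    exact act_inv' g x
  · intro h w hw
    obtain ⟨y, rfl⟩ := mem_comSp.1 hw
    rw [LK_apply, map_sub, LinearMap.sub_apply]
    conv_lhs => rw [← h]
    rw [kf_act, h, sub_self]

/-- the fixed space of two elements is the orthogonal of the sum of the commutator spaces -/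
theorem perp_sup (x y : G8 K) : LinearMap.BilinForm.orthogonal (kf K) (comSp (LK K x) ⊔ comSp (LK K y)) =
    fixSp (LK K x) ⊓ fixSp (LK K y) := by
  ext v
  rw [Submodule.mem_inf, mem_fixSp, mem_fixSp, LK_apply, LK_apply, ← perp_comSp, ← perp_comSp]
  constructor
  · intro h
    exact ⟨fun w hw => h w (Submodule.mem_sup_left hw), fun w hw => h w (Submodule.mem_sup_right hw)⟩
  · rintro ⟨h1, h2⟩ w hw
    obtain ⟨a, ha, b, hb, rfl⟩ := Submodule.mem_sup.1 hw
    show kf K (a + b) v = 0
    rw [map_add, LinearMap.add_apply, h1 a ha, h2 b hb, add_zero]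

/-- **Scott's lemma** with the fixed vectors -/
theorem scott' (x y : G8 K) : ev (LK K x) 1 + ev (LK K y) 1 + ev (LK K (x * y)) 1 ≤
    248 + 2 * finrank K ↥(fixSp (LK K x) ⊓ fixSp (LK K y)) := by
  have h1 := Cfsg.Agent.FP3.scott' (LK K x) (LK K y)
  have h2 := finrank_perp (comSp (LK K x) ⊔ comSp (LK K y))
  rw [perp_sup] at h2
  rw [finrank_L8, ← map_mul] at h1
  rw [ev_one_eq, ev_one_eq, ev_one_eq]
  omega

theorem fix_of_gen {φ : A →* G8 K} {S : Set A} (hS : Subgroup.closure S = ⊤) {v : L8 K}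
    (h : ∀ a ∈ S, act (φ a) v = v) (a : A) : act (φ a) v = v := by
  have h1 : Subgroup.closure S ≤ (stab v).comap φ := (Subgroup.closure_le _).2 fun b hb => h b hb
  exact h1 (hS ▸ Subgroup.mem_top a)

/-- **Scott's lemma** -/
theorem scott {φ : A →* G8 K} (hφ : NoFx φ) {x y : A} (hxy : Subgroup.closure ({x, y} : Set A) = ⊤) :
    ev (rp φ x) 1 + ev (rp φ y) 1 + ev (rp φ (x * y)) 1 ≤ 248 := by
  have h1 := scott' (φ x) (φ y)
  have h2 : fixSp (LK K (φ x)) ⊓ fixSp (LK K (φ y)) = ⊥ := by
    rw [eq_bot_iff]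
    intro v hv
    refine hφ v (fix_of_gen hxy ?_)
    rintro a (rfl | rfl)
    · exact mem_fixSp.1 hv.1
    · exact mem_fixSp.1 hv.2
  rw [h2, finrank_bot, ← map_mul] at h1
  exact h1

theorem com_top {φ : A →* G8 K} (hφ : NoFx φ) : ⨆ a, comSp (rp φ a) = ⊤ :=
  eq_top_of_perp fun x hx => hφ x fun a => (perp_comSp (φ a) x).1 fun w hw =>
    hx w (Submodule.mem_iSup_of_mem a hw)

theorem NoFx.inv {φ : A →* G8 K} (hφ : NoFx φ) : (rp φ).invariants = ⊥ := by
  rw [eq_bot_iff]
  intro v hv
  exact hφ v fun a => hv a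

theorem noFx_of_inv {φ : A →* G8 K} (h : (rp φ).invariants = ⊥) : NoFx φ := fun v hv => by
  have h1 : v ∈ (rp φ).invariants := fun a => hv a
  rwa [h] at h1

/-- invariant functionals -/
theorem NoFx.dual {φ : A →* G8 K} (hφ : NoFx φ) (f : L8 K →ₗ[K] K) (hf : ∀ a v, f (act (φ a) v) = f v) : f = 0 := by
  have h1 : (⊤ : Submodule K (L8 K)) ≤ LinearMap.ker f := by
    rw [← com_top hφ]
    refine iSup_le fun a w hw => ?_
    obtain ⟨y, rfl⟩ := mem_comSp.1 hw
    rw [LinearMap.mem_ker, map_sub, rp_apply, hf, sub_self]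
  exact LinearMap.ext fun v => h1 Submodule.mem_top

end scott

/-! ### change of the field -/

section chg

variable {F : Type v} [Field F] (f : F →+* K)

theorem ev_em (g : G8 F) (μ : F) : ev (LK K (em f g)) (f μ) = ev (LK F g) μ := by
  rw [LK_eq, LK_eq, mx_em]
  exact Cfsg.Agent.H815.F4Chg.ev_map f _ μ

theorem ev_em_one (g : G8 F) : ev (LK K (em f g)) 1 = ev (LK F g) 1 := by
  rw [← ev_em f g 1, map_one]

theorem trace_em (g : G8 F) : LinearMap.trace K _ (LK K (em f g)) = f (LinearMap.trace F _ (LK F g)) := by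
  rw [LK_eq, LK_eq, mx_em]
  exact Cfsg.Agent.H815.F4Chg.trace_map f _

variable {A : Type*} [Group A]

theorem ext_inv (φ : A →* G8 F) : ext f (rp φ).invariants = (rp ((em f).comp φ)).invariants := by
  apply le_antisymm
  · refine Cfsg.Agent.H65.E6Emb.ext_le fun x hx a => ?_
    have h1 : act (φ a) x = x := hx a
    have h2 := act_em f (φ a) x
    rw [h1] at h2
    exact h2
  · intro y hy
    exact Cfsg.Agent.H65.E6Emb.mem_ext_fixed (fun a => mx (φ a)) (rp φ).invariants
      (fun x hx => show ∀ a, rp φ a x = x from hx) fun a => hy a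

theorem finrank_inv_em (φ : A →* G8 F) :
    finrank K ↥(rp ((em f).comp φ)).invariants = finrank F ↥(rp φ).invariants := by
  rw [← ext_inv, Cfsg.Agent.H65.E6Emb.finrank_ext]

theorem NoFx.em {φ : A →* G8 F} (hφ : NoFx φ) : NoFx ((em f).comp φ) := by
  apply noFx_of_inv
  rw [← ext_inv, hφ.inv, Cfsg.Agent.H65.E6Emb.ext_bot]

theorem ext_stable {g : G8 F} {W : Submodule F (L8 F)} (h : ∀ w ∈ W, act g w ∈ W) :
    ∀ w ∈ ext f W, act (E8A.em f g) w ∈ ext f W := by
  have h1 : ext f W ≤ (ext f W).comap (LK K (E8A.em f g)) := by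
    refine Cfsg.Agent.H65.E6Emb.ext_le fun x hx => ?_
    have h2 := act_em f g x
    show act (E8A.em f g) (mp f x) ∈ ext f W
    rw [h2]
    exact Cfsg.Agent.H65.E6Emb.mem_ext_of_mem (h x hx)
  exact fun w hw => h1 hw

end chg

end Cfsg.Agent.E8A.Inf
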