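import Cfsg.Agent.E8A.Inf.Tab
import Cfsg.Agent.E8A.Fix.Main
import Cfsg.Agent.E8A.Reg5.Iface
import Cfsg.Agent.Lib.VonDyck

/-!
# S5772: `n = 5` (helper41)

* `noFx` : FIX in the form `NoFx φ`;
* `five_small` : `A₅` has fixed vectors in characteristic 2, 3, 5 (Scott's lemma);
* `no_five : REG5 → MaxAlt H 5 φ → False`.
-/

set_option autoImplicit false
set_option maxRecDepth 100000

namespace Cfsg.Agent.E8A.Inf

open Cfsg Cfsg.Lie Module
open Cfsg.Agent.H952.F4 (ev es MaxAlt)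
open Cfsg.Agent.Lib.VonDyck (a5 b5 closure_a5_b5 a5_sq b5_pow ab5_pow a5_ne b5_ne ab5_ne)

universe u

variable {F : Type u} [Field F] [Finite F]

theorem noFx {H : Subgroup (G8 F)} {n : ℕ} {φ : ↥(alternatingGroup (Fin n)) →* G8 F} (hM : MaxAlt H n φ)
    (h5 : 5 ≤ n) (h18 : n ≤ 18) (h3 : Nat.card F = 3 → n ≤ 13) : NoFx φ := fix F H n φ hM h5 h18 h3

omit [Finite F] in
theorem cast_ne {p : ℕ} [Fact p.Prime] [CharP F p] {m : ℕ} (h : ¬ p ∣ m) : (m : F) ≠ 0 := fun h0 =>
  h ((CharP.cast_eq_zero_iff F p m).1 h0)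

theorem ge_two {x : G8 F} (hx : x ^ 2 = 1) : 120 ≤ ev (LK F x) 1 := by
  by_cases h1 : x = 1
  · rw [h1, ev_one]; norm_num
  by_cases h : (2 : F) = 0
  · have : CharP F 2 := CharTwo.of_one_ne_zero_of_two_eq_zero one_ne_zero h
    have h2 := ge_p hx
    omega
  · have h2 := two h hx h1
    omega

theorem charP_of {p : ℕ} [hp : Fact p.Prime] (h : (p : F) = 0) : CharP F p := by
  obtain ⟨r, hr, hF⟩ := exists_char F
  have h1 := (CharP.cast_eq_zero_iff F r p).1 h
  rwa [(Nat.prime_dvd_prime_iff_eq hr hp.out).1 h1] at hF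

theorem ge_three {x : G8 F} (hx : x ^ 3 = 1) : 80 ≤ ev (LK F x) 1 := by
  by_cases h1 : x = 1
  · rw [h1, ev_one]; norm_num
  by_cases h : (3 : F) = 0
  · have : CharP F 3 := charP_of (by exact_mod_cast h)
    have h2 := ge_p hx
    omega
  · have h2 := three h hx h1
    omega

theorem ge_five {x : G8 F} (hx : x ^ 5 = 1) : 48 ≤ ev (LK F x) 1 := by
  by_cases h1 : x = 1
  · rw [h1, ev_one]; norm_num
  by_cases h : (5 : F) = 0
  · have : Fact (Nat.Prime 5) := ⟨by norm_num⟩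
    have : CharP F 5 := charP_of (by exact_mod_cast h)
    have h2 := ge_p hx
    omega
  · have h2 := five h hx h1
    omega

theorem five_small {φ : ↥(alternatingGroup (Fin 5)) →* G8 F} (hφ : NoFx φ)
    (h : (2 : F) = 0 ∨ (3 : F) = 0 ∨ (5 : F) = 0) : False := by
  have h1 : ev (LK F (φ a5)) 1 + ev (LK F (φ b5)) 1 + ev (LK F (φ (a5 * b5))) 1 ≤ 248 := scott hφ closure_a5_b5
  have e2 : φ a5 ^ 2 = 1 := by rw [← map_pow, a5_sq, map_one]
  have e3 : φ b5 ^ 3 = 1 := by rw [← map_pow, b5_pow, map_one]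
  have e5 : φ (a5 * b5) ^ 5 = 1 := by rw [← map_pow, ab5_pow, map_one]
  have h2 := ge_two e2
  have h3 := ge_three e3
  have h5 := ge_five e5
  rcases h with h | h | h
  · have : CharP F 2 := charP_of (by exact_mod_cast h)
    have := ge_p e2
    omega
  · have : CharP F 3 := charP_of (by exact_mod_cast h)
    have := ge_p e3
    omega
  · have : Fact (Nat.Prime 5) := ⟨by norm_num⟩
    have : CharP F 5 := charP_of (by exact_mod_cast h)
    have := ge_p e5
    omega

theorem no_five (hR : Reg5.REG5.{u}) {H : Subgroup (G8 F)} {φ : ↥(alternatingGroup (Fin 5)) →* G8 F}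
    (hM : MaxAlt H 5 φ) : False := by
  have hφ := noFx hM le_rfl (by norm_num) fun _ => by norm_num
  obtain ⟨p, hp, hF⟩ := exists_char F
  by_cases h7 : 7 ≤ p
  · exact hR F p h7 H φ hM hφ
  · have h0 : (p : F) = 0 := CharP.cast_eq_zero F p
    refine five_small hφ ?_
    have h2 := hp.two_le
    have : p = 2 ∨ p = 3 ∨ p = 4 ∨ p = 5 ∨ p = 6 := by omega
    rcases this with rfl | rfl | rfl | rfl | rfl
    · exact Or.inl (by exact_mod_cast h0)
    · exact Or.inr (Or.inl (by exact_mod_cast h0))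
    · exact absurd hp (by norm_num)
    · exact Or.inr (Or.inr (by exact_mod_cast h0))
    · exact absurd hp (by norm_num)

end Cfsg.Agent.E8A.Inf
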