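import Cfsg.Agent.E8A.Inf.Form
import Cfsg.Agent.E8A.Reg5.ClsKac
import Cfsg.Agent.H944.Tab

/-!
# S5772, S5930: multiplicities of the eigenvalues of the semisimple elements on the adjoint module (helper41)

* `pk N y` : the multiplicities of `1, ζ, ζ², …` of the torus element with Kac coordinates `y`, as digits in base 256;
* `pw N n d k` : the multiplicity of `ζ ^ k` for the `d`-th power; `Cj.ev_pow`;
* `exists_pk` : over the algebraic closure; `patF` : over the finite field, with the rationality conditions `rat N n a`.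
-/

set_option autoImplicit false
set_option maxRecDepth 100000

namespace Cfsg.Agent.E8A.Inf

open Cfsg Cfsg.Lie Module
open Cfsg.Agent.H952.F4 (ev es)
open Cfsg.Agent.H288.E8L (Q8 wt wt_inl wt_inr)
open Cfsg.Agent.H944.Tab (dotN sumH allAlc hh sumH_eq sum_ms dotF dotN_eq allAlc_spec)
open Cfsg.Agent.H944.RootVals (ms)
open Cfsg.Agent.H942.E8Tab (R8 th8 tab8 len8)
open Cfsg.Agent.E8A.Reg5.Cls (ex dz Cj kac exists_prim)
open Cfsg.Agent.ChevalleyStructure.CoxeterGeomTypes Cfsg.Agent.ChevalleyStructure.RootVec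
  Cfsg.Agent.ChevalleyStructure.RootVecTab Cfsg.Agent.Nodes.RGDChev Cfsg.Agent.Nodes.Reps

universe u v

/-- the vector of a list -/
def toQ (y : List ℕ) : Q8 := fun i => ((y.getD i 0 : ℕ) : ℤ)

/-- the multiplicities as digits -/
def pk (N : ℕ) (y : List ℕ) : ℕ := 8 + sumH (hh N) R8 y

/-- digits -/
def dg (n k : ℕ) : ℕ := n / 256 ^ k % 256

/-- the sum of the digits `j < m` with `d j = k` modulo `N` -/
def pwA (N n d k : ℕ) : ℕ → ℕ
  | 0 => 0
  | m + 1 => (bif Nat.beq (d * m % N) k then dg n m else 0) + pwA N n d k m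

/-- the multiplicity of `ζ ^ k` for the `d`-th power -/
def pw (N n d k : ℕ) : ℕ := pwA N n d k N

/-- the `a`-th power has the same multiplicities -/
def rat (N n a : ℕ) : Bool := (List.range N).all fun k => Nat.beq (pw N n a k) (dg n k)

theorem pwA_eq (N n d k m : ℕ) : pwA N n d k m = ∑ j ∈ Finset.range m, if d * j % N = k then dg n j else 0 := by
  induction m with
  | zero => rfl
  | succ m ih =>
    rw [pwA, ih, Finset.sum_range_succ, add_comm]
    congr 1
    by_cases h : d * m % N = k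
    · rw [if_pos h, h, Nat.beq_refl, cond_true]
    · rw [if_neg h, Bool.eq_false_iff.2 fun h' => h (Nat.eq_of_beq_eq_true h'), cond_false]

theorem pw_one {N n k : ℕ} (hk : k < N) : pw N n 1 k = dg n k := by
  rw [pw, pwA_eq, Finset.sum_eq_single k]
  · rw [one_mul, Nat.mod_eq_of_lt hk, if_pos rfl]
  · intro j hj hjk
    rw [one_mul, Nat.mod_eq_of_lt (Finset.mem_range.1 hj), if_neg hjk]
  · intro h
    exact absurd (Finset.mem_range.2 hk) h

theorem dg_sum (c : ℕ → ℕ) (hc : ∀ k, c k < 256) : ∀ (N k : ℕ), k < N →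
    dg (∑ j ∈ Finset.range N, c j * 256 ^ j) k = c k := by
  intro N
  induction N generalizing c with
  | zero => intro k hk; omega
  | succ N ih =>
    intro k hk
    have h1 : ∑ j ∈ Finset.range (N + 1), c j * 256 ^ j =
        c 0 + 256 * ∑ j ∈ Finset.range N, c (j + 1) * 256 ^ j := by
      rw [Finset.sum_range_succ', Finset.mul_sum, add_comm, pow_zero, mul_one]
      congr 1
      exact Finset.sum_congr rfl fun j _ => by ring
    rw [h1]
    rcases k with _ | k
    · rw [dg, pow_zero, Nat.div_one, Nat.add_mul_mod_self_left, Nat.mod_eq_of_lt (hc 0)]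
    · have h2 := ih (fun j => c (j + 1)) (fun j => hc _) k (by omega)
      rw [dg] at h2 ⊢
      rw [pow_succ', ← Nat.div_div_eq_div_mul, Nat.add_mul_div_left _ _ (by norm_num), Nat.div_eq_of_lt (hc 0),
        zero_add, h2]

/-- the exponent modulo `N` -/
def exN (N : ℕ) (y : List ℕ) (j : chevE8.Idx) : ZMod N := ((ex (toQ y) (wt j) : ℤ) : ZMod N)

theorem sum_idx {N : ℕ} {A : Type*} [AddCommMonoid A] (y : List ℕ) (f : ZMod N → A) :
    ∑ j : chevE8.Idx, f (exN N y j) =
      8 • f 0 + (R8.map fun r => f ((dotN r y : ℕ) : ZMod N) + f (-((dotN r y : ℕ) : ZMod N))).sum := by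
  rw [Fintype.sum_sum_type]
  congr 1
  · have h1 : ∀ i : Fin chevE8.rank, f (exN N y (Sum.inl i)) = f 0 := fun i => by
      rw [exN, wt_inl, Reg5.Cls.ex_zero, Int.cast_zero]
    rw [Finset.sum_congr rfl fun i _ => h1 i, Finset.sum_const, Finset.card_univ, Fintype.card_fin]
    rfl
  · have h1 := sum_ms tab8 (fun i : Fin 8 => ((y.getD i 0 : ℕ) : ZMod N)) f
    rw [ms, Multiset.map_map] at h1
    have h2 : ∑ s : Fin chevE8.nroots, f (exN N y (Sum.inr s)) =
        ∑ s : Fin chevE8.nroots, f (∑ i, (vec chevE8 8 s i : ZMod N) * ((y.getD i 0 : ℕ) : ZMod N)) := by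
      refine Finset.sum_congr rfl fun s _ => ?_
      rw [exN, wt_inr, ex]
      congr 1
      simp only [toQ]
      push_cast
      rfl
    rw [h2]
    refine Eq.trans h1 (congrArg List.sum (List.map_congr_left fun r hr => ?_))
    have h3 : dotF (l := 8) r (fun i : Fin 8 => ((y.getD i 0 : ℕ) : ZMod N)) = ((dotN r y : ℕ) : ZMod N) := by
      rw [dotN_eq 8 r y (len8 r hr), dotF]
      push_cast
      rfl
    rw [h3]

/-- the number of weights with a given exponent -/
def cn (N : ℕ) (y : List ℕ) (k : ℕ) : ℕ := (Finset.univ.filter fun j : chevE8.Idx => (exN N y j).val = k).card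

theorem cn_lt (N : ℕ) (y : List ℕ) (k : ℕ) : cn N y k < 256 := by
  have h1 : cn N y k ≤ Fintype.card chevE8.Idx := Finset.card_le_univ _
  have h2 : Fintype.card chevE8.Idx = 248 := by
    rw [Fintype.card_sum, Fintype.card_fin, Fintype.card_fin]
    rfl
  omega

theorem sum_cn {N : ℕ} (hN : N ≠ 0) (y : List ℕ) (f : ℕ → ℕ) :
    ∑ j : chevE8.Idx, f (exN N y j).val = ∑ k ∈ Finset.range N, cn N y k * f k := by
  have : NeZero N := ⟨hN⟩
  rw [← Finset.sum_fiberwise_of_maps_to (s := Finset.univ) (t := Finset.range N) (g := fun j => (exN N y j).val)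
    fun j _ => Finset.mem_range.2 (ZMod.val_lt _)]
  refine Finset.sum_congr rfl fun k _ => ?_
  rw [Finset.sum_congr rfl fun j hj => by rw [(Finset.mem_filter.1 hj).2], Finset.sum_const, smul_eq_mul, cn]

theorem pk_eq {N : ℕ} (hN : N ≠ 0) (y : List ℕ) : pk N y = ∑ k ∈ Finset.range N, cn N y k * 256 ^ k := by
  have : NeZero N := ⟨hN⟩
  rw [← sum_cn hN, sum_idx y fun a => 256 ^ a.val, pk, sumH_eq, ZMod.val_zero, pow_zero]
  refine congrArg₂ (· + ·) rfl (congrArg List.sum (List.map_congr_left fun r _ => ?_))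
  rw [hh, ZMod.neg_val', ZMod.val_natCast]

theorem dg_pk {N : ℕ} (y : List ℕ) {k : ℕ} (hk : k < N) : dg (pk N y) k = cn N y k := by
  rw [pk_eq (by omega), dg_sum _ (cn_lt N y) N k hk]

theorem pw_pk {N : ℕ} (hN : N ≠ 0) (y : List ℕ) (d k : ℕ) :
    pw N (pk N y) d k = (Finset.univ.filter fun j : chevE8.Idx => d * (exN N y j).val % N = k).card := by
  rw [pw, pwA_eq, Finset.card_filter, sum_cn hN y fun a => if d * a % N = k then 1 else 0]
  refine Finset.sum_congr rfl fun j hj => ?_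
  rw [dg_pk y (Finset.mem_range.1 hj)]
  split_ifs <;> simp

section

variable {K : Type u} [Field K]

theorem ev_diagonal {n : Type*} [Fintype n] [DecidableEq n] [DecidableEq K] (c : n → K) (μ : K) :
    ev (Matrix.toLin' (Matrix.diagonal c)) μ = (Finset.univ.filter fun j => c j = μ).card := by
  have h1 := Cfsg.Agent.H815.F4Chg.ev_toLin (Matrix.diagonal c) μ
  have h2 : Matrix.diagonal c - μ • (1 : Matrix n n K) = Matrix.diagonal fun j => c j - μ := by
    rw [← Matrix.diagonal_one, ← Matrix.diagonal_smul, Matrix.diagonal_sub]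
    congr 1
    funext j
    simp
  rw [h2, Matrix.rank_diagonal, Fintype.card_subtype] at h1
  have h3 := Finset.card_filter_add_card_filter_not (s := (Finset.univ : Finset n)) fun j => c j = μ
  have h4 : (Finset.univ.filter fun j => c j - μ ≠ 0) = Finset.univ.filter fun j => ¬ c j = μ :=
    Finset.filter_congr fun j _ => by rw [Ne, sub_eq_zero]
  rw [Finset.card_univ] at h3
  rw [h4] at h1
  omega

theorem ev_le_of_semi {V : Type*} [AddCommGroup V] [Module K V] [FiniteDimensional K V] {u v e : Module.End K V}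
    (he : Function.Injective e) (h : u * e = e * v) (μ : K) : ev v μ ≤ ev u μ := by
  have h1 : ∀ w ∈ v.eigenspace μ, e w ∈ u.eigenspace μ := by
    intro w hw
    rw [Module.End.mem_eigenspace_iff] at hw ⊢
    rw [← Module.End.mul_apply, h, Module.End.mul_apply, hw, map_smul]
  refine LinearMap.finrank_le_finrank_of_injective (f := e.restrict h1) fun a b hab => ?_
  exact Subtype.ext (he (congrArg Subtype.val hab))

theorem ev_of_semi {g c : G8 K} {D : Matrix chevE8.Idx chevE8.Idx K} (hc : mx g * mx c = mx c * D) (μ : K) :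
    ev (LK K g) μ = ev (Matrix.toLin' D) μ := by
  have h1 : LK K g * LK K c = LK K c * Matrix.toLin' D := by
    rw [LK_eq, LK_eq, Module.End.mul_eq_comp, Module.End.mul_eq_comp, ← Matrix.toLin'_mul, ← Matrix.toLin'_mul, hc]
  have h2 : Matrix.toLin' D * LK K c⁻¹ = LK K c⁻¹ * LK K g := by
    calc Matrix.toLin' D * LK K c⁻¹ = LK K c⁻¹ * (LK K c * Matrix.toLin' D) * LK K c⁻¹ := by
          rw [← mul_assoc, ← map_mul, inv_mul_cancel, map_one, one_mul]
      _ = LK K c⁻¹ * LK K g := by rw [← h1, mul_assoc, mul_assoc, ← map_mul, mul_inv_cancel, map_one, mul_one]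
  exact le_antisymm (ev_le_of_semi (act_injective c⁻¹) h2 μ) (ev_le_of_semi (act_injective c) h1 μ)

theorem ev_conj (c g : G8 K) (μ : K) : ev (LK K (c * g * c⁻¹)) μ = ev (LK K g) μ := by
  rw [ev_of_semi (c := c) (D := mx g) (by rw [← mx_mul, ← mx_mul, inv_mul_cancel_right]), LK_eq]

theorem ev_isConj {g h : G8 K} (hc : IsConj g h) (μ : K) : ev (LK K h) μ = ev (LK K g) μ := by
  obtain ⟨c, rfl⟩ := isConj_iff.1 hc
  exact ev_conj c g μ

theorem mx_pow (g : G8 K) (d : ℕ) : mx (g ^ d) = mx g ^ d := by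
  induction d with
  | zero => rw [pow_zero, pow_zero, mx_one]
  | succ d ih => rw [pow_succ, pow_succ, mx_mul, ih]

theorem cj_ev_pow {ζ : K} {N : ℕ} (hζ : IsPrimitiveRoot ζ N) (hN : N ≠ 0) {g : G8 K} {y : List ℕ}
    (h : Cj g ζ (toQ y)) (d : ℕ) {k : ℕ} (hk : k < N) : ev (LK K (g ^ d)) (ζ ^ k) = pw N (pk N y) d k := by
  classical
  have : NeZero N := ⟨hN⟩
  obtain ⟨c, hc⟩ := h
  have h1 : mx (g ^ d) * mx c = mx c * dz ζ (toQ y) ^ d := by
    rw [mx_pow]
    exact (SemiconjBy.pow_right (a := mx c) (x := dz ζ (toQ y)) (y := mx g) hc.symm d).symm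
  rw [ev_of_semi h1, dz, Matrix.diagonal_pow, ev_diagonal, pw_pk hN]
  congr 1
  refine Finset.filter_congr fun j _ => ?_
  have h2 : ζ ^ ex (toQ y) (wt j) = ζ ^ (exN N y j).val := by
    have h3 : (N : ℤ) ∣ ex (toQ y) (wt j) - ((exN N y j).val : ℤ) := by
      rw [← ZMod.intCast_zmod_eq_zero_iff_dvd]
      push_cast
      rw [ZMod.natCast_zmod_val, exN, sub_self]
    have h4 := (hζ.zpow_eq_one_iff_dvd _).2 h3
    have h0 := hζ.ne_zero hN
    rwa [zpow_sub₀ h0, div_eq_one_iff_eq (zpow_ne_zero _ h0), zpow_natCast] at h4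
  rw [Pi.pow_apply, h2, ← pow_mul, mul_comm]
  constructor
  · intro h5
    refine hζ.pow_inj (Nat.mod_lt _ (Nat.pos_of_ne_zero hN)) hk ?_
    rw [← h5, ← pow_eq_pow_mod _ hζ.pow_eq_one]
  · intro h5
    rw [← h5, ← pow_eq_pow_mod _ hζ.pow_eq_one]

theorem cj_rat {ζ : K} {N : ℕ} (hζ : IsPrimitiveRoot ζ N) (hN : N ≠ 0) {g : G8 K} {y : List ℕ}
    (h : Cj g ζ (toQ y)) {a : ℕ} (ha : IsConj g (g ^ a)) : rat N (pk N y) a = true := by
  rw [rat, List.all_eq_true]
  intro k hk
  have hk' := List.mem_range.1 hk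
  rw [← cj_ev_pow hζ hN h a hk', ← pw_one hk', ← cj_ev_pow hζ hN h 1 hk', pow_one, ev_isConj ha, Nat.beq_refl]

end

section

variable {F : Type u} [Field F] [Finite F]

theorem exists_char' {N : ℕ} (hN : (N : F) ≠ 0) : ∃ p : ℕ, ∃ _ : Fact p.Prime, ∃ _ : CharP F p, N.Coprime p := by
  obtain ⟨p, hp, hF⟩ := exists_char F
  refine ⟨p, ⟨hp⟩, hF, (hp.coprime_iff_not_dvd.2 fun h => hN ?_).symm⟩
  exact (CharP.cast_eq_zero_iff F p N).2 h

theorem exists_root {N : ℕ} (hN : (N : F) ≠ 0) : ∃ ζ : Kb F, IsPrimitiveRoot ζ N := by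
  obtain ⟨p, _, _, hp⟩ := exists_char' hN
  exact exists_prim p hp

/-- **Kac coordinates** as a list -/
theorem exists_cj {N : ℕ} (hN : (N : F) ≠ 0) {ζ : Kb F} (hζ : IsPrimitiveRoot ζ N) {g : G8 (Kb F)} (hg : g ^ N = 1) :
    ∃ y : List ℕ, y.length = 8 ∧ dotN th8 y ≤ N ∧ Cj g ζ (toQ y) := by
  obtain ⟨p, _, _, hp⟩ := exists_char' hN
  have hN0 : N ≠ 0 := by
    rintro rfl
    exact hN Nat.cast_zero
  obtain ⟨y, hy, hc⟩ := kac p hN0 hp hζ hg
  refine ⟨[y 0, y 1, y 2, y 3, y 4, y 5, y 6, y 7], rfl, ?_, ?_⟩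
  · simp only [th8, dotN]
    omega
  · have h1 : toQ [y 0, y 1, y 2, y 3, y 4, y 5, y 6, y 7] = fun i => (y i : ℤ) := by
      funext i
      fin_cases i <;> rfl
    rwa [h1]

theorem of_allAlc {N : ℕ} {P : List ℕ → Bool} (hP : allAlc th8 N P = true) {y : List ℕ} (h1 : y.length = 8)
    (h2 : dotN th8 y ≤ N) : P y = true :=
  allAlc_spec th8 N P (by decide) hP y h1 h2

/-- the multiplicities over the algebraic closure -/
theorem exists_pk {N : ℕ} (hN : (N : F) ≠ 0) {ζ : Kb F} (hζ : IsPrimitiveRoot ζ N) {g : G8 (Kb F)} (hg : g ^ N = 1)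
    {P : ℕ → Bool} (hP : allAlc th8 N (fun y => P (pk N y)) = true) :
    ∃ n, P n = true ∧ (∀ d k, k < N → ev (LK (Kb F) (g ^ d)) (ζ ^ k) = pw N n d k) ∧
      ∀ a, IsConj g (g ^ a) → rat N n a = true := by
  have hN0 : N ≠ 0 := by
    rintro rfl
    exact hN Nat.cast_zero
  obtain ⟨y, h1, h2, h3⟩ := exists_cj hN hζ hg
  exact ⟨pk N y, of_allAlc hP h1 h2, fun d k hk => cj_ev_pow hζ hN0 h3 d hk, fun a ha => cj_rat hζ hN0 h3 ha⟩

/-- the dimensions of the fixed spaces of the powers, over the finite field -/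
theorem patF {N : ℕ} (hN : (N : F) ≠ 0) {x : G8 F} (hx : x ^ N = 1)
    {P : ℕ → Bool} (hP : allAlc th8 N (fun y => P (pk N y)) = true) :
    ∃ n, P n = true ∧ (∀ d, ev (LK F (x ^ d)) 1 = pw N n d 0) ∧ ∀ a, IsConj x (x ^ a) → rat N n a = true := by
  have hN0 : N ≠ 0 := by
    rintro rfl
    exact hN Nat.cast_zero
  obtain ⟨ζ, hζ⟩ := exists_root hN
  obtain ⟨n, h1, h2, h3⟩ := exists_pk hN hζ (g := emb0 x) (by rw [← map_pow, hx, map_one]) hP
  refine ⟨n, h1, fun d => ?_, fun a ha => h3 a ?_⟩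
  · rw [← h2 d 0 (Nat.pos_of_ne_zero hN0), pow_zero, ← map_pow, emb0, ev_em_one]
  · rw [← map_pow]
    exact emb0.map_isConj ha

omit [Finite F] in
theorem eq_one_of_ev {x : G8 F} (h : ev (LK F x) 1 = 248) : x = 1 := by
  have h1 : Module.End.eigenspace (LK F x) 1 = ⊤ :=
    Submodule.eq_top_of_finrank_eq (by rw [finrank_L8]; exact h)
  apply mx_injective
  rw [mx_one]
  ext i j
  have h2 : ee F j ∈ Module.End.eigenspace (LK F x) 1 := h1 ▸ Submodule.mem_top
  rw [Module.End.mem_eigenspace_iff, one_smul, LK_apply] at h2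
  rw [← act_ee, h2, ee_apply, Matrix.one_apply]

omit [Finite F] in
theorem ev_one : ev (LK F 1) 1 = 248 := by
  rw [map_one, ev, Module.End.eigenspace_def, one_smul, sub_self, LinearMap.ker_zero, finrank_top, finrank_L8]

end

end Cfsg.Agent.E8A.Inf
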