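import Cfsg.Agent.E8A.Inf.Tab

/-!
# S5772, S5930: tables for the orders 12, 13, 15, 17 (helper41)
-/

set_option autoImplicit false
set_option maxRecDepth 100000

namespace Cfsg.Agent.E8A.Inf

open Cfsg Cfsg.Lie Module
open Cfsg.Agent.H952.F4 (ev es)

universe u

/-- `x ^ 12 = 1`, `x` conjugate to `x ^ 5`: the dimensions of the fixed spaces of `x ^ d`, `d ∈ [1, 2, 3, 4, 6]` -/
def T12r5 : List (List ℕ) :=
  [[20, 40, 60, 80, 120], [22, 42, 60, 86, 120], [22, 42, 64, 86, 120], [22, 44, 60, 92, 120],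
   [22, 44, 66, 80, 136], [24, 40, 60, 80, 120], [24, 44, 60, 92, 120], [24, 44, 64, 92, 120], [24, 46, 66, 86, 136],
   [24, 46, 70, 86, 136], [24, 50, 66, 86, 136], [26, 44, 82, 80, 136], [26, 52, 66, 92, 136], [26, 52, 70, 80, 136],
   [26, 52, 70, 92, 136], [26, 54, 60, 86, 120], [28, 46, 70, 86, 136], [28, 46, 82, 86, 136], [28, 52, 70, 92, 136],
   [30, 52, 70, 80, 136], [30, 54, 60, 86, 120], [32, 40, 92, 80, 120], [32, 44, 60, 92, 120], [32, 44, 92, 92, 120],
   [32, 50, 82, 86, 136], [32, 64, 64, 80, 120], [32, 68, 66, 92, 136], [34, 52, 70, 92, 136], [34, 52, 82, 92, 136],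
   [34, 54, 60, 86, 120], [34, 70, 60, 134, 120], [34, 70, 66, 134, 136], [36, 70, 60, 134, 120],
   [36, 70, 70, 134, 136], [38, 42, 92, 86, 120], [38, 52, 70, 80, 136], [38, 54, 92, 86, 120],
   [38, 68, 66, 92, 136], [38, 68, 82, 92, 136], [38, 70, 64, 134, 120], [38, 70, 70, 134, 136],
   [40, 46, 70, 86, 136], [40, 70, 66, 134, 136], [40, 70, 82, 134, 136], [40, 80, 120, 80, 248],
   [40, 82, 70, 86, 136], [42, 86, 120, 86, 248], [44, 46, 134, 86, 136], [44, 80, 136, 80, 248],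
   [44, 92, 60, 92, 120], [44, 92, 120, 92, 248], [46, 86, 136, 86, 248], [48, 82, 70, 86, 136],
   [50, 52, 70, 92, 136], [50, 52, 134, 80, 136], [50, 52, 134, 92, 136], [50, 70, 60, 134, 120],
   [50, 70, 92, 134, 120], [50, 86, 136, 86, 248], [50, 92, 120, 92, 248], [50, 92, 136, 92, 248],
   [52, 80, 136, 80, 248], [52, 92, 60, 92, 120], [52, 92, 136, 92, 248], [54, 86, 120, 86, 248],
   [60, 120, 60, 248, 120], [64, 80, 120, 80, 248], [64, 120, 64, 248, 120], [64, 134, 66, 134, 136],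
   [64, 134, 120, 134, 248], [66, 136, 66, 248, 136], [68, 70, 70, 134, 136], [68, 70, 134, 134, 136],
   [68, 92, 92, 92, 120], [68, 92, 136, 92, 248], [70, 134, 120, 134, 248], [70, 134, 136, 134, 248],
   [70, 136, 70, 248, 136], [80, 80, 248, 80, 248], [80, 82, 134, 86, 136], [80, 134, 82, 134, 136],
   [80, 134, 136, 134, 248], [82, 86, 136, 86, 248], [82, 136, 82, 248, 136], [86, 86, 248, 86, 248],
   [92, 92, 120, 92, 248], [92, 92, 248, 92, 248], [92, 120, 92, 248, 120], [120, 248, 120, 248, 248],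
   [134, 134, 136, 134, 248], [134, 134, 248, 134, 248], [134, 136, 134, 248, 136], [136, 248, 136, 248, 248],
   [248, 248, 248, 248, 248]]

theorem chk_T12r5 : chk 12 [5] [1, 2, 3, 4, 6] T12r5 = true := by decide +kernel

/-- `x ^ 13 = 1`, `x` conjugate to `x ^ 2`: the dimensions of the fixed spaces of `x ^ d`, `d ∈ [1]` -/
def T13r2 : List (List ℕ) :=
  [[20], [32], [248]]

theorem chk_T13r2 : chk 13 [2] [1] T13r2 = true := by decide +kernel

/-- `x ^ 13 = 1`, `x` conjugate to `x ^ 4`: the dimensions of the fixed spaces of `x ^ d`, `d ∈ [1]` -/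
def T13r4 : List (List ℕ) :=
  [[20], [32], [38], [80], [248]]

theorem chk_T13r4 : chk 13 [4] [1] T13r4 = true := by decide +kernel

/-- `x ^ 15 = 1`, `x` conjugate to `x ^ 2`: the dimensions of the fixed spaces of `x ^ d`, `d ∈ [1, 3, 5]` -/
def T15r2 : List (List ℕ) :=
  [[16, 48, 80], [18, 52, 86], [20, 48, 92], [24, 68, 92], [26, 68, 86], [28, 68, 80], [34, 68, 134], [48, 48, 248],
   [48, 68, 92], [52, 52, 248], [68, 68, 248], [80, 248, 80], [86, 248, 86], [92, 248, 92], [134, 248, 134],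
   [248, 248, 248]]

theorem chk_T15r2 : chk 15 [2] [1, 3, 5] T15r2 = true := by decide +kernel

/-- `x ^ 17 = 1`, `x` conjugate to `x ^ 3`: the dimensions of the fixed spaces of `x ^ d`, `d ∈ [1]` -/
def T17r3 : List (List ℕ) :=
  [[248]]

theorem chk_T17r3 : chk 17 [3] [1] T17r3 = true := by decide +kernel

section

variable {F : Type u} [Field F] [Finite F] {x : G8 F}

theorem thirteen_rat (h13 : (13 : F) ≠ 0) (hx : x ^ 13 = 1) (h1 : x ≠ 1) (hr : IsConj x (x ^ 2)) :
    ev (LK F x) 1 = 20 ∨ ev (LK F x) 1 = 32 := by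
  have h := tab chk_T13r2 (by exact_mod_cast h13) hx (by simpa using hr)
  have h' : ev (LK F x) 1 ≠ 248 := fun e => h1 (eq_one_of_ev e)
  simp only [T13r2, List.map, pow_one, List.mem_cons, List.cons.injEq, and_true, List.not_mem_nil, or_false] at h
  omega

theorem seventeen_rat (h17 : (17 : F) ≠ 0) (hx : x ^ 17 = 1) (hr : IsConj x (x ^ 3)) : x = 1 := by
  have h := tab chk_T17r3 (by exact_mod_cast h17) hx (by simpa using hr)
  simp only [T17r3, List.map, pow_one, List.mem_cons, List.cons.injEq, and_true, List.not_mem_nil, or_false] at h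
  exact eq_one_of_ev h

end

end Cfsg.Agent.E8A.Inf
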